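import Groth.Agent.Lib.IsQuot25.Comp
import Groth.Agent.Lib.IsQuot25.FlatBC

/-!
# Quotients by finite groups of invertible order commute with arbitrary base change
-/

set_option autoImplicit false
set_option backward.isDefEq.respectTransparency.types false
universe u

open CategoryTheory CategoryTheory.Limits AlgebraicGeometry TopologicalSpace TensorProduct

namespace Groth.Agent.SymZeta13

open Groth.Agent.IsQuot25

section

variable {X Y : Scheme.{u}} {G : Type u} [Group G] [Finite G] {ρ : G →* Aut X} {p : X ⟶ Y}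

/-- Base change of quotients by groups of invertible order. -/
theorem baseChange_invertible (hp : SGA1.IsQuot ρ p)
    (hcard : ∀ U : Y.Opens, IsUnit ((Nat.card G : ℕ) : Γ(Y, U))) {X' Y' : Scheme.{u}} (qY : Y' ⟶ Y)
    (pX : X' ⟶ X) (p' : X' ⟶ Y') (hX : IsPullback pX p' p qY)
    (ρ' : G →* Aut X') (hρ₁ : ∀ g : G, (ρ' g).hom ≫ pX = pX ≫ (ρ g).hom)
    (hρ₂ : ∀ g : G, (ρ' g).hom ≫ p' = p') : SGA1.IsQuot ρ' p' := by
  refine of_affineCover (MorphismProperty.of_isPullback hX hp.affine) hρ₂ fun y' => ?_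
  obtain ⟨U, hU, hyU, -⟩ :=
    exists_isAffineOpen_mem_and_subset (show qY y' ∈ (⊤ : Y.Opens) from trivial)
  obtain ⟨U', hU', hyU', hle⟩ :=
    exists_isAffineOpen_mem_and_subset (show y' ∈ qY ⁻¹ᵁ U from hyU)
  refine ⟨U', hU', hyU', ?_⟩
  have hle' : U' ≤ qY ⁻¹ᵁ U := hle
  have hV := isAffineOpen_preimage hp hU
  have hUY : p' ⁻¹ᵁ U' = pX ⁻¹ᵁ (p ⁻¹ᵁ U) ⊓ p' ⁻¹ᵁ U' := by
    refine le_antisymm (le_inf (fun x hx => ?_) le_rfl) inf_le_right
    have h1 : qY (p' x) ∈ U := hle' hx
    rw [← Scheme.Hom.comp_apply, ← hX.w, Scheme.Hom.comp_apply] at h1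
    exact h1
  have hle'' : p' ⁻¹ᵁ U' ≤ pX ⁻¹ᵁ (p ⁻¹ᵁ U) := hUY.le.trans inf_le_left
  have hpo := (isIso_pushoutSection_iff hX hle' le_rfl hUY).1
    (isIso_pushoutSection_of_isAffineOpen hX hle' le_rfl hUY hU hU' hV)
  let A := Γ(Y, U)
  let B := Γ(X, p ⁻¹ᵁ U)
  let A' := Γ(Y', U')
  let B' := Γ(X', p' ⁻¹ᵁ U')
  let j : A ⟶ A' := qY.appLE U U' hle'
  let i : A ⟶ B := p.app U
  let k : B ⟶ B' := pX.appLE (p ⁻¹ᵁ U) (p' ⁻¹ᵁ U') hle''
  let i' : A' ⟶ B' := p'.app U'
  have hw : i ≫ k = j ≫ i' := by
    have := hpo.w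
    simpa only [i, j, k, i', Scheme.Hom.app_eq_appLE] using this
  letI : Algebra A A' := j.hom.toAlgebra
  letI : Algebra A B := i.hom.toAlgebra
  letI : Algebra B B' := k.hom.toAlgebra
  letI : Algebra A' B' := i'.hom.toAlgebra
  letI : Algebra A B' := (i ≫ k).hom.toAlgebra
  haveI : IsScalarTower A B B' := .of_algebraMap_eq' rfl
  haveI : IsScalarTower A A' B' := .of_algebraMap_eq' (congrArg CommRingCat.Hom.hom hw)
  haveI : Algebra.IsPushout A A' B B' := by
    rw [← CommRingCat.isPushout_iff_isPushout]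
    have := hpo.flip
    simpa only [A, B, A', B', i, j, k, i', RingHom.algebraMap_toAlgebra, CommRingCat.ofHom_hom,
      Scheme.Hom.app_eq_appLE] using this
  let e := Algebra.IsPushout.equiv A A' B B'
  let act : G → B →ₗ[A] B := fun g =>
    { toFun := fun b => actHom hp.inv U g b
      map_add' := fun a b => map_add (actHom hp.inv U g).hom a b
      map_smul' := fun a b => by
        show actHom hp.inv U g (i a * b) = i a * actHom hp.inv U g b
        rw [map_mul]
        exact congrArg (· * _) congr($(actHom_app hp.inv U g) a) }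
  have hk : ∀ g b, actHom hρ₂ U' g (k b) = k (actHom hp.inv U g b) := fun g b => by
    have : k ≫ actHom hρ₂ U' g = actHom hp.inv U g ≫ k := by
      rw [actHom, actHom, Scheme.Hom.appLE_comp_appLE, Scheme.Hom.appLE_comp_appLE,
        appLE_eq (hρ₁ g)]
    exact congr($this b)
  have heq : ∀ (g : G) (x : A' ⊗[A] B), actHom hρ₂ U' g (e x) = e ((act g).lTensor A' x) := by
    intro g x
    induction x with
    | zero => simp
    | tmul a b =>
      rw [LinearMap.lTensor_tmul, Algebra.IsPushout.equiv_tmul, Algebra.IsPushout.equiv_tmul]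
      show actHom hρ₂ U' g (i' a * k b) = i' a * k (actHom hp.inv U g b)
      rw [map_mul, hk]
      exact congrArg (· * _) congr($(actHom_app hρ₂ U' g) a)
    | add x y hx hy => simp only [map_add, hx, hy]
  let iL : A →ₗ[A] B := Algebra.linearMap A B
  cases nonempty_fintype G
  obtain ⟨c, hc⟩ := (hcard U).exists_left_inv
  let avg : B →ₗ[A] B := c • ∑ g, act g
  have havg : ∀ b, avg b = c • ∑ g, actHom hp.inv U g b := fun b => by
    simp only [avg, LinearMap.smul_apply, LinearMap.sum_apply]; rfl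
  have havgmem : ∀ b, avg b ∈ LinearMap.range iL := fun b => by
    have : avg b ∈ Set.range (p.app U).hom := (hp.range_iff U (avg b)).2 fun h => by
      show act h (avg b) = avg b
      simp only [avg, LinearMap.smul_apply, LinearMap.sum_apply, map_smul, map_sum]
      congr 1
      refine Fintype.sum_equiv (Equiv.mulRight h) _ _ fun g => ?_
      show actHom hp.inv U h (actHom hp.inv U g b) = actHom hp.inv U (g * h) b
      exact (congr($(actHom_mul hp.inv U g h) b)).symm
    obtain ⟨a, ha⟩ := this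
    exact ⟨a, ha⟩
  let r : B →ₗ[A] A :=
    (LinearEquiv.ofInjective iL (hp.injective U)).symm.toLinearMap ∘ₗ avg.codRestrict _ havgmem
  have hir : iL ∘ₗ r = avg := LinearMap.ext fun b =>
    congrArg Subtype.val ((LinearEquiv.ofInjective iL (hp.injective U)).apply_symm_apply ⟨avg b, havgmem b⟩)
  have hfix : ∀ b, (∀ g, act g b = b) → avg b = b := fun b hb => by
    simp only [avg, LinearMap.smul_apply, LinearMap.sum_apply, hb, Finset.sum_const, Finset.card_univ]
    rw [← Nat.cast_smul_eq_nsmul A, smul_smul, ← Nat.card_eq_fintype_card, hc, one_smul]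
  have hri : r ∘ₗ iL = LinearMap.id := LinearMap.ext fun a => hp.injective U (by
    show iL (r (iL a)) = iL a
    rw [← LinearMap.comp_apply, hir]
    exact hfix _ fun g => congr($(actHom_app hp.inv U g) a))
  have he : ∀ z : A' ⊗[A] A, e (iL.lTensor A' z) = i' (TensorProduct.rid A A' z) := by
    intro z
    induction z with
    | zero => simp
    | tmul a b =>
      rw [LinearMap.lTensor_tmul, Algebra.IsPushout.equiv_tmul, TensorProduct.rid_tmul]
      show i' a * k (i b) = i' (j b * a)
      rw [show k (i b) = i' (j b) from congr($hw b), map_mul, mul_comm]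
    | add x y hx hy => simp only [map_add, hx, hy]
  constructor
  · intro a a' h
    obtain ⟨z, rfl⟩ := (TensorProduct.rid A A').surjective a
    obtain ⟨z', rfl⟩ := (TensorProduct.rid A A').surjective a'
    have h' : e (iL.lTensor A' z) = e (iL.lTensor A' z') := by rw [he, he]; exact h
    have h'' := congrArg (r.lTensor A') (e.injective h')
    rw [← LinearMap.comp_apply, ← LinearMap.comp_apply, ← LinearMap.lTensor_comp, hri,
      LinearMap.lTensor_id] at h''
    exact congrArg _ h''
  · intro s hs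
    obtain ⟨x, rfl⟩ := e.surjective s
    have hx : ∀ g, (act g).lTensor A' x = x := fun g => e.injective ((heq g x).symm.trans (hs g))
    have hfx : avg.lTensor A' x = x := by
      rw [← LinearMap.coe_lTensorHom]
      simp only [avg, map_smul, map_sum, LinearMap.smul_apply, LinearMap.sum_apply, LinearMap.coe_lTensorHom, hx,
        Finset.sum_const, Finset.card_univ]
      rw [← Nat.cast_smul_eq_nsmul A, smul_smul, ← Nat.card_eq_fintype_card, hc, one_smul]
    refine ⟨TensorProduct.rid A A' (r.lTensor A' x), (he _).symm.trans (congrArg e ?_)⟩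
    rw [← LinearMap.comp_apply, ← LinearMap.lTensor_comp, hir, hfx]

end

/-- Products of quotients over a base, for groups of invertible order. -/
theorem isQuot_prod_invertible {G H : Type u} [Group G] [Finite G] [Group H] [Finite H]
    {X Y XG YH B : Scheme.{u}} (fX : X ⟶ B) (fY : Y ⟶ B) (gX : XG ⟶ B) (gY : YH ⟶ B)
    (hG : ∀ U : XG.Opens, IsUnit ((Nat.card G : ℕ) : Γ(XG, U)))
    (hH : ∀ U : YH.Opens, IsUnit ((Nat.card H : ℕ) : Γ(YH, U)))
    (ρ : G →* Aut X) (σ : H →* Aut Y)
    (p : X ⟶ XG) (hp : p ≫ gX = fX) (q : Y ⟶ YH) (hq : q ≫ gY = fY)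
    (hP : SGA1.IsQuot ρ p) (hQ : SGA1.IsQuot σ q)
    (θ : G × H →* Aut (pullback fX fY))
    (hθ1 : ∀ gh : G × H, (θ gh).hom ≫ pullback.fst fX fY = pullback.fst fX fY ≫ (ρ gh.1).hom)
    (hθ2 : ∀ gh : G × H, (θ gh).hom ≫ pullback.snd fX fY = pullback.snd fX fY ≫ (σ gh.2).hom)
    (π : pullback fX fY ⟶ pullback gX gY) (hπ1 : π ≫ pullback.fst gX gY = pullback.fst fX fY ≫ p)
    (hπ2 : π ≫ pullback.snd gX gY = pullback.snd fX fY ≫ q) : SGA1.IsQuot θ π := by
  subst hp hq
  -- the intermediate product
  let m : pullback (p ≫ gX) (q ≫ gY) ⟶ pullback gX (q ≫ gY) :=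
    pullback.lift (pullback.fst _ _ ≫ p) (pullback.snd _ _) (by rw [Category.assoc, pullback.condition])
  let n : pullback gX (q ≫ gY) ⟶ pullback gX gY :=
    pullback.lift (pullback.fst _ _) (pullback.snd _ _ ≫ q) (by rw [Category.assoc, pullback.condition])
  have hm : IsPullback (pullback.fst (p ≫ gX) (q ≫ gY)) m p (pullback.fst gX (q ≫ gY)) :=
    IsPullback.of_bot (h₁₁ := pullback.fst (p ≫ gX) (q ≫ gY)) (v₁₁ := m) (v₁₂ := p)
      (h₂₁ := pullback.fst gX (q ≫ gY)) (v₂₁ := pullback.snd gX (q ≫ gY)) (v₂₂ := gX) (h₃₁ := q ≫ gY)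
      (by rw [show m ≫ pullback.snd gX (q ≫ gY) = pullback.snd _ _ from pullback.lift_snd _ _ _]
          exact IsPullback.of_hasPullback _ _)
      (pullback.lift_fst _ _ _).symm (IsPullback.of_hasPullback _ _)
  have hn : IsPullback (pullback.snd gX (q ≫ gY)) n q (pullback.snd gX gY) :=
    IsPullback.of_bot (h₁₁ := pullback.snd gX (q ≫ gY)) (v₁₁ := n) (v₁₂ := q)
      (h₂₁ := pullback.snd gX gY) (v₂₁ := pullback.fst gX gY) (v₂₂ := gY) (h₃₁ := gX)
      (by rw [show n ≫ pullback.fst gX gY = pullback.fst _ _ from pullback.lift_fst _ _ _]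
          exact (IsPullback.of_hasPullback _ _).flip)
      (pullback.lift_snd _ _ _).symm (IsPullback.of_hasPullback _ _).flip
  have hπ : π = m ≫ n := by
    apply pullback.hom_ext
    · rw [hπ1, Category.assoc, pullback.lift_fst, pullback.lift_fst]
    · rw [hπ2, Category.assoc, pullback.lift_snd, pullback.lift_snd_assoc]
  let τH : H → (pullback gX (q ≫ gY) ⟶ pullback gX (q ≫ gY)) := fun h =>
    pullback.map gX (q ≫ gY) gX (q ≫ gY) (𝟙 _) (σ h).hom (𝟙 _)
      (by rw [Category.comp_id, Category.id_comp])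
      (by rw [Category.comp_id, reassoc_of% (hQ.inv h)])
  have hτ1 : ∀ h, τH h ≫ pullback.fst _ _ = pullback.fst _ _ := fun h => by
    simp [τH, pullback.map, pullback.lift_fst]
  have hτ2 : ∀ h, τH h ≫ pullback.snd _ _ = pullback.snd _ _ ≫ (σ h).hom := fun h => by
    simp [τH, pullback.map, pullback.lift_snd]
  let τ : H →* Aut (pullback gX (q ≫ gY)) :=
    { toFun := fun h =>
        { hom := τH h
          inv := τH h⁻¹
          hom_inv_id := by
            apply pullback.hom_ext
            · simp [hτ1]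
            · simp only [Category.assoc, hτ2, reassoc_of% (hτ2 h), Category.id_comp]
              rw [← map_mul_hom, inv_mul_cancel, map_one_hom, Category.comp_id]
          inv_hom_id := by
            apply pullback.hom_ext
            · simp [hτ1]
            · simp only [Category.assoc, hτ2, reassoc_of% (hτ2 h⁻¹), Category.id_comp]
              rw [← map_mul_hom, mul_inv_cancel, map_one_hom, Category.comp_id] }
      map_one' := by
        ext1
        show τH 1 = 𝟙 _
        apply pullback.hom_ext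
        · simp [hτ1]
        · rw [hτ2, map_one_hom, Category.comp_id, Category.id_comp]
      map_mul' := fun h h' => by
        ext1
        show τH (h * h') = τH h' ≫ τH h
        apply pullback.hom_ext
        · simp [hτ1]
        · rw [Category.assoc, hτ2, hτ2, reassoc_of% (hτ2 h'), map_mul_hom] }
  have q₁ : SGA1.IsQuot (θ.comp (MonoidHom.inl G H)) m :=
    baseChange_invertible hP hG _ _ m hm _ (fun g => hθ1 (g, 1)) fun g => by
      show (θ (g, 1)).hom ≫ m = m
      apply pullback.hom_ext
      · rw [Category.assoc, pullback.lift_fst, reassoc_of% (hθ1 (g, 1)), hP.inv]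
      · rw [Category.assoc, pullback.lift_snd, hθ2, map_one_hom, Category.comp_id]
  have q₂ : SGA1.IsQuot τ n :=
    baseChange_invertible hQ hH _ _ n hn τ hτ2 fun h => by
      show τH h ≫ n = n
      apply pullback.hom_ext
      · rw [Category.assoc, pullback.lift_fst, hτ1]
      · rw [Category.assoc, pullback.lift_snd, reassoc_of% (hτ2 h), hQ.inv]
  rw [hπ]
  refine isQuot_comp q₁ q₂ (fun gh => ?_) (fun g => ⟨(g, 1), rfl⟩) (fun h => ⟨(1, h), ?_⟩)
  · apply pullback.hom_ext
    · simp only [m, n, Category.assoc, pullback.lift_fst]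
      rw [reassoc_of% (hθ1 gh), hP.inv]
    · simp only [m, n, Category.assoc, pullback.lift_snd, pullback.lift_snd_assoc]
      rw [reassoc_of% (hθ2 gh), hQ.inv]
  · show (θ (1, h)).hom ≫ m = m ≫ τH h
    apply pullback.hom_ext
    · rw [Category.assoc, Category.assoc, pullback.lift_fst, hτ1, pullback.lift_fst,
        reassoc_of% (hθ1 (1, h)), map_one_hom, Category.id_comp]
    · rw [Category.assoc, Category.assoc, pullback.lift_snd, hθ2, hτ2, pullback.lift_snd_assoc]

end Groth.Agent.SymZeta13
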