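import Groth.Agent.Lib.IsQuot25.Coset
import Groth.Agent.Lib.IsQuot25.Exists
import Groth.Agent.Lib.IsQuot25.EtaleQuot

/-!
# The piece of a quotient cut out by an invariant open, as a quotient of a slice by its stabilizer
-/

set_option autoImplicit false
set_option backward.isDefEq.respectTransparency.types false
universe u

open CategoryTheory CategoryTheory.Limits AlgebraicGeometry TopologicalSpace

namespace Groth.Agent.SymZeta13

open Groth.Agent.IsQuot25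

/-- Pull back a quotient along a surjection of groups. -/
theorem isQuot_comp_surjective {X Y : Scheme.{u}} {G H : Type u} [Group G] [Group H] {ρ : G →* Aut X}
    {p : X ⟶ Y} (hp : SGA1.IsQuot ρ p) (φ : H →* G) (hφ : Function.Surjective φ) :
    SGA1.IsQuot (ρ.comp φ) p :=
  ⟨hp.affine, fun h => hp.inv (φ h), hp.injective, fun U s => (hp.range_iff U s).trans
    ⟨fun hs h => hs (φ h), fun hs g => by obtain ⟨h, rfl⟩ := hφ g; exact hs h⟩⟩

variable {X Y W : Scheme.{u}} {G H : Type u} [Group G] [Finite G] [Group H] {ρ : G →* Aut X} {p : X ⟶ Y}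

/-- A slice of a quotient: if the translates of an open piece cover and meet it only under the stabilizer. -/
theorem isQuot_slice (hp : SGA1.IsQuot ρ p) (j : W ⟶ X) [IsOpenImmersion j] (φ : H →* G)
    (σ : H →* Aut W) (hσ : ∀ h, (σ h).hom ≫ j = j ≫ (ρ (φ h)).hom)
    (hcov : ∀ x : X, ∃ (g : G) (w : W), (ρ g).hom (j w) = x)
    (hdisj : ∀ (g : G) (w w' : W), (ρ g).hom (j w) = j w' → g ∈ φ.range) :
    SGA1.IsQuot σ (j ≫ p) := by
  let O := j.opensRange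
  have hK : ∀ k : φ.range, ((ρ.comp φ.range.subtype) k).hom ⁻¹ᵁ O = O := by
    rintro ⟨_, h, rfl⟩
    ext x
    constructor
    · rintro ⟨w, hw⟩
      refine ⟨(σ h⁻¹).hom w, ?_⟩
      rw [← Scheme.Hom.comp_apply, hσ, Scheme.Hom.comp_apply, hw, map_inv]
      exact inv_apply_apply ρ (φ h) x
    · rintro ⟨w, rfl⟩
      exact ⟨(σ h).hom w, by rw [← Scheme.Hom.comp_apply, hσ, Scheme.Hom.comp_apply]; rfl⟩
  let ρY := restr (ρ.comp φ.range.subtype) O hK
  have hY : SGA1.IsQuot ρY (O.ι ≫ p) := by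
    refine isQuot_coset hp φ.range O (fun x => ?_) (fun g hg => Set.disjoint_left.2 ?_) ρY
      (fun k => restr_ι _ _ _ _)
    · obtain ⟨g, w, rfl⟩ := hcov x
      exact ⟨g, j w, ⟨w, rfl⟩, rfl⟩
    · rintro _ ⟨_, ⟨w, rfl⟩, rfl⟩ ⟨w', hw'⟩
      exact hg (hdisj g w w' hw'.symm)
  have hY' := isQuot_comp_surjective hY φ.rangeRestrict φ.rangeRestrict_surjective
  rw [show j ≫ p = j.isoOpensRange.hom ≫ O.ι ≫ p by
    rw [← Category.assoc, Scheme.Hom.isoOpensRange_hom_ι]]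
  refine of_iso_left hY' j.isoOpensRange σ fun h => ?_
  rw [← cancel_mono O.ι, Category.assoc, Category.assoc, Scheme.Hom.isoOpensRange_hom_ι, hσ,
    MonoidHom.comp_apply, restr_ι, reassoc_of% (Scheme.Hom.isoOpensRange_hom_ι j)]
  rfl

/-- A slice of the part of a quotient over an open of the base. -/
theorem isQuot_slice_open (hp : SGA1.IsQuot ρ p) (V : Y.Opens) (j : W ⟶ X) [IsOpenImmersion j]
    (hjV : Set.range j ⊆ p ⁻¹ᵁ V) (φ : H →* G) (σ : H →* Aut W)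
    (hσ : ∀ h, (σ h).hom ≫ j = j ≫ (ρ (φ h)).hom)
    (hcov : ∀ x : X, x ∈ p ⁻¹ᵁ V → ∃ (g : G) (w : W), (ρ g).hom (j w) = x)
    (hdisj : ∀ (g : G) (w w' : W), (ρ g).hom (j w) = j w' → g ∈ φ.range) :
    ∃ q : W ⟶ V.toScheme, q ≫ V.ι = j ≫ p ∧ SGA1.IsQuot σ q := by
  let ρU := restr ρ (p ⁻¹ᵁ V) (preimage_inv_of_inv ρ hp.inv V)
  have hU : ∀ g, (ρU g).hom ≫ (p ⁻¹ᵁ V).ι = (p ⁻¹ᵁ V).ι ≫ (ρ g).hom := restr_ι _ _ _
  let j' : W ⟶ (p ⁻¹ᵁ V).toScheme := IsOpenImmersion.lift (p ⁻¹ᵁ V).ι j (by rwa [Scheme.Opens.range_ι])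
  have hj' : j' ≫ (p ⁻¹ᵁ V).ι = j := IsOpenImmersion.lift_fac _ _ _
  haveI : IsOpenImmersion (j' ≫ (p ⁻¹ᵁ V).ι) := hj'.symm ▸ ‹IsOpenImmersion j›
  haveI : IsOpenImmersion j' := IsOpenImmersion.of_comp j' (p ⁻¹ᵁ V).ι
  have hpt : ∀ g w, (p ⁻¹ᵁ V).ι ((ρU g).hom (j' w)) = (ρ g).hom (j w) := fun g w => by
    rw [← hj', Scheme.Hom.comp_apply, ← Scheme.Hom.comp_apply (ρU g).hom, hU, Scheme.Hom.comp_apply]
  refine ⟨j' ≫ p ∣_ V, by rw [Category.assoc, morphismRestrict_ι, reassoc_of% hj'], ?_⟩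
  refine isQuot_slice (morphismRestrict hp V ρU hU) j' φ σ (fun h => ?_) (fun x => ?_) (fun g w w' e => ?_)
  · rw [← cancel_mono (p ⁻¹ᵁ V).ι, Category.assoc, Category.assoc, hj', hσ, hU, reassoc_of% hj']
  · obtain ⟨g, w, hw⟩ := hcov _ x.2
    refine ⟨g, w, (p ⁻¹ᵁ V).ι.isOpenEmbedding.injective ((hpt g w).trans ?_)⟩
    exact hw
  · refine hdisj g w w' ((hpt g w).symm.trans ?_)
    rw [e, ← Scheme.Hom.comp_apply, hj']

end Groth.Agent.SymZeta13
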