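import Mathlib
import Groth.Prelude.Def_SymProd
import Groth.Prelude.Def_K0Var
import Groth.Agent.Lib.SymZeta13.BaseChange
import Groth.Agent.Lib.SymZeta13.Piece

/-!
# Symmetric products of a disjoint union
-/

set_option autoImplicit false
set_option backward.isDefEq.respectTransparency.types false
universe u

open CategoryTheory CategoryTheory.Limits AlgebraicGeometry TopologicalSpace

namespace Groth.Agent.SymZeta13

open Groth.Agent.IsQuot25

section Prod

variable {X Y B : Scheme.{u}} {G H : Type u} [Group G] [Group H] (fX : X ⟶ B) (fY : Y ⟶ B)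
  (ρ : G →* Aut X) (σ : H →* Aut Y) (hρ : ∀ g, (ρ g).hom ≫ fX = fX) (hσ : ∀ h, (σ h).hom ≫ fY = fY)

/-- The product action on a fibre product. -/
noncomputable def prodHom (a : G × H) : pullback fX fY ⟶ pullback fX fY :=
  pullback.lift (pullback.fst fX fY ≫ (ρ a.1).hom) (pullback.snd fX fY ≫ (σ a.2).hom) (by
    rw [Category.assoc, Category.assoc, hρ, hσ, pullback.condition])

/-- The product action on a fibre product, as a homomorphism. -/
noncomputable def prodAct : G × H →* Aut (pullback fX fY) where
  toFun a :=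
    { hom := prodHom fX fY ρ σ hρ hσ a
      inv := prodHom fX fY ρ σ hρ hσ a⁻¹
      hom_inv_id := by
        apply pullback.hom_ext <;> simp only [prodHom, Category.assoc, pullback.lift_fst, pullback.lift_snd,
          pullback.lift_fst_assoc, pullback.lift_snd_assoc, Category.id_comp, Prod.fst_inv, Prod.snd_inv,
          ← map_mul_hom, inv_mul_cancel, map_one_hom, Category.comp_id]
      inv_hom_id := by
        apply pullback.hom_ext <;> simp only [prodHom, Category.assoc, pullback.lift_fst, pullback.lift_snd,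
          pullback.lift_fst_assoc, pullback.lift_snd_assoc, Category.id_comp, Prod.fst_inv, Prod.snd_inv,
          ← map_mul_hom, mul_inv_cancel, map_one_hom, Category.comp_id] }
  map_one' := by
    ext1
    show prodHom fX fY ρ σ hρ hσ 1 = 𝟙 _
    apply pullback.hom_ext <;> simp only [prodHom, pullback.lift_fst, pullback.lift_snd, Category.id_comp,
      Prod.fst_one, Prod.snd_one, map_one_hom, Category.comp_id]
  map_mul' a b := by
    ext1
    show prodHom fX fY ρ σ hρ hσ (a * b) = prodHom fX fY ρ σ hρ hσ b ≫ prodHom fX fY ρ σ hρ hσ a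
    apply pullback.hom_ext <;> simp only [prodHom, Category.assoc, pullback.lift_fst, pullback.lift_snd,
      pullback.lift_fst_assoc, pullback.lift_snd_assoc, Prod.fst_mul, Prod.snd_mul, map_mul_hom]

theorem prodAct_fst (a : G × H) : (prodAct fX fY ρ σ hρ hσ a).hom ≫ pullback.fst fX fY =
    pullback.fst fX fY ≫ (ρ a.1).hom := pullback.lift_fst _ _ _

theorem prodAct_snd (a : G × H) : (prodAct fX fY ρ σ hρ hσ a).hom ≫ pullback.snd fX fY =
    pullback.snd fX fY ≫ (σ a.2).hom := pullback.lift_snd _ _ _

end Prod

/-- Natural numbers that are invertible in the base field are invertible in all sections. -/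
theorem isUnit_natCast_sections {k : Type u} [Field k] [CharZero k] {Z : Scheme.{u}}
    (a : Z ⟶ Spec (CommRingCat.of k)) (U : Z.Opens) {n : ℕ} (hn : n ≠ 0) : IsUnit ((n : ℕ) : Γ(Z, U)) := by
  let φ : CommRingCat.of k ⟶ Γ(Z, U) :=
    (Scheme.ΓSpecIso (CommRingCat.of k)).inv ≫ a.appLE ⊤ U le_top
  have h := (isUnit_iff_ne_zero.2 (Nat.cast_ne_zero.2 hn : (n : k) ≠ 0)).map φ.hom
  rwa [map_natCast] at h

section Decomp

variable {X X' Y : Scheme.{u}} (f : X ⟶ Y) (f' : X' ⟶ Y)

/-- The factors of a point of the fibre power of a disjoint union lying in the first summand. -/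
noncomputable def lefts (n : ℕ) (z : ↥(SymProd.fibPow (coprod.desc f f') n)) : Finset (Fin n) :=
  @Finset.filter _ (fun m => WidePullback.π (fun _ : Fin n => coprod.desc f f') m z ∈
    Set.range (coprod.inl : X ⟶ X ⨿ X')) (Classical.decPred _) Finset.univ

theorem mem_lefts {n : ℕ} {z : ↥(SymProd.fibPow (coprod.desc f f') n)} {m : Fin n} :
    m ∈ lefts f f' n z ↔ WidePullback.π (fun _ : Fin n => coprod.desc f f') m z ∈
      Set.range (coprod.inl : X ⟶ X ⨿ X') := by
  classical
  simp [lefts]

theorem isLocallyConstant_lefts (n : ℕ) : IsLocallyConstant (lefts f f' n) := by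
  classical
  have hL : IsClopen (Set.range (coprod.inl : X ⟶ X ⨿ X')) :=
    ⟨by
      rw [← isOpen_compl_iff, (isCompl_range_inl_inr X X').compl_eq]
      exact (coprod.inr : X' ⟶ X ⨿ X').isOpenEmbedding.isOpen_range,
      (coprod.inl : X ⟶ X ⨿ X').isOpenEmbedding.isOpen_range⟩
  refine IsLocallyConstant.iff_isOpen_fiber.2 fun s => ?_
  have h : lefts f f' n ⁻¹' {s} = ⋂ m : Fin n,
      if m ∈ s then (WidePullback.π (fun _ : Fin n => coprod.desc f f') m) ⁻¹' Set.range (coprod.inl : X ⟶ X ⨿ X')
      else (WidePullback.π (fun _ : Fin n => coprod.desc f f') m) ⁻¹' (Set.range (coprod.inl : X ⟶ X ⨿ X'))ᶜ := by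
    ext z
    simp only [Set.mem_preimage, Set.mem_singleton_iff, Set.mem_iInter, Finset.ext_iff, mem_lefts]
    refine forall_congr' fun m => ?_
    split_ifs with hm <;> simp [hm]
  rw [h]
  refine isOpen_iInter_of_finite fun m => ?_
  split_ifs
  · exact hL.2.preimage (Scheme.Hom.continuous _)
  · exact hL.1.isOpen_compl.preimage (Scheme.Hom.continuous _)

theorem mem_lefts_perm {n : ℕ} (σ : Equiv.Perm (Fin n)) (z : ↥(SymProd.fibPow (coprod.desc f f') n)) (m : Fin n) :
    m ∈ lefts f f' n (SymProd.permHom (coprod.desc f f') n σ z) ↔ σ.symm m ∈ lefts f f' n z := by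
  rw [mem_lefts, mem_lefts, ← Scheme.Hom.comp_apply, SymProd.permHom_π]

theorem card_lefts_perm {n : ℕ} (σ : Equiv.Perm (Fin n)) (z : ↥(SymProd.fibPow (coprod.desc f f') n)) :
    (lefts f f' n (SymProd.permHom (coprod.desc f f') n σ z)).card = (lefts f f' n z).card :=
  Finset.card_equiv σ.symm fun m => mem_lefts_perm f f' σ z m

section Slice

variable (i j : ℕ)

/-- The permutations preserving the two blocks. -/
def blockHom : ULift.{u} (Equiv.Perm (Fin i)) × ULift.{u} (Equiv.Perm (Fin j)) →*
    ULift.{u} (Equiv.Perm (Fin (i + j))) where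
  toFun a := ⟨finSumFinEquiv.permCongr (Equiv.Perm.sumCongr a.1.down a.2.down)⟩
  map_one' := by
    apply ULift.ext
    exact Equiv.ext fun m => by obtain ⟨x | x, rfl⟩ := finSumFinEquiv.surjective m <;> simp
  map_mul' a b := by
    apply ULift.ext
    exact Equiv.ext fun m => by obtain ⟨x | x, rfl⟩ := finSumFinEquiv.surjective m <;> simp

theorem blockHom_symm_castAdd (a : ULift.{u} (Equiv.Perm (Fin i)) × ULift.{u} (Equiv.Perm (Fin j))) (x : Fin i) :
    (blockHom i j a).down.symm (Fin.castAdd j x) = Fin.castAdd j (a.1.down.symm x) := by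
  rw [Equiv.symm_apply_eq]
  simp [blockHom]

theorem blockHom_symm_natAdd (a : ULift.{u} (Equiv.Perm (Fin i)) × ULift.{u} (Equiv.Perm (Fin j))) (x : Fin j) :
    (blockHom i j a).down.symm (Fin.natAdd i x) = Fin.natAdd i (a.2.down.symm x) := by
  rw [Equiv.symm_apply_eq]
  simp [blockHom]

theorem mem_range_blockHom (g : ULift.{u} (Equiv.Perm (Fin (i + j))))
    (hg : ∀ x : Fin i, ∃ x' : Fin i, g.down (Fin.castAdd j x) = Fin.castAdd j x') :
    g ∈ (blockHom i j).range := by
  obtain ⟨⟨a, b⟩, hab⟩ := Equiv.Perm.mem_sumCongrHom_range_of_perm_mapsTo_inl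
    (σ := finSumFinEquiv.symm.permCongr g.down) (by
      rintro _ ⟨x, rfl⟩
      obtain ⟨x', hx'⟩ := hg x
      exact ⟨x', by simp [Equiv.permCongr_apply, hx']⟩)
  refine ⟨(⟨a⟩, ⟨b⟩), ULift.ext _ _ ?_⟩
  have hab' : Equiv.Perm.sumCongr a b = finSumFinEquiv.symm.permCongr g.down := hab
  show finSumFinEquiv.permCongr (Equiv.Perm.sumCongr a b) = g.down
  rw [hab']
  exact Equiv.ext fun m => by simp [Equiv.permCongr_apply]

/-- The standard slice. -/
noncomputable def slice :
    pullback (WidePullback.base fun _ : Fin i => f) (WidePullback.base fun _ : Fin j => f') ⟶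
      SymProd.fibPow (coprod.desc f f') (i + j) :=
  WidePullback.lift (pullback.fst _ _ ≫ WidePullback.base _)
    (Fin.addCases (fun a => pullback.fst _ _ ≫ WidePullback.π _ a ≫ coprod.inl)
      (fun b => pullback.snd _ _ ≫ WidePullback.π _ b ≫ coprod.inr))
    (fun m => by
      induction m using Fin.addCases with
      | left a =>
        simp only [Fin.addCases_left, Category.assoc]
        erw [coprod.inl_desc, WidePullback.π_arrow]
      | right b =>
        simp only [Fin.addCases_right, Category.assoc]
        erw [coprod.inr_desc, WidePullback.π_arrow]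
        exact pullback.condition.symm)

theorem slice_π_left (a : Fin i) : slice f f' i j ≫ WidePullback.π _ (Fin.castAdd j a) =
    pullback.fst _ _ ≫ WidePullback.π _ a ≫ coprod.inl := by
  unfold slice; rw [WidePullback.lift_π, Fin.addCases_left]

theorem slice_π_right (b : Fin j) : slice f f' i j ≫ WidePullback.π _ (Fin.natAdd i b) =
    pullback.snd _ _ ≫ WidePullback.π _ b ≫ coprod.inr := by
  unfold slice; rw [WidePullback.lift_π, Fin.addCases_right]

theorem slice_base : slice f f' i j ≫ WidePullback.base _ = pullback.fst _ _ ≫ WidePullback.base _ := by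
  unfold slice; rw [WidePullback.lift_base]

theorem castAdd_mem_lefts_slice (w : ↥(pullback (WidePullback.base fun _ : Fin i => f) (WidePullback.base fun _ : Fin j => f')))
    (a : Fin i) : Fin.castAdd j a ∈ lefts f f' (i + j) (slice f f' i j w) := by
  rw [mem_lefts, ← Scheme.Hom.comp_apply, slice_π_left, Scheme.Hom.comp_apply, Scheme.Hom.comp_apply]
  exact ⟨_, rfl⟩

theorem natAdd_notMem_lefts_slice (w : ↥(pullback (WidePullback.base fun _ : Fin i => f) (WidePullback.base fun _ : Fin j => f')))
    (b : Fin j) : Fin.natAdd i b ∉ lefts f f' (i + j) (slice f f' i j w) := by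
  rw [mem_lefts, ← Scheme.Hom.comp_apply, slice_π_right, Scheme.Hom.comp_apply, Scheme.Hom.comp_apply]
  rintro ⟨x, hx⟩
  exact inl_ne_inr X X' x _ hx

theorem lefts_slice (w : ↥(pullback (WidePullback.base fun _ : Fin i => f) (WidePullback.base fun _ : Fin j => f'))) :
    lefts f f' (i + j) (slice f f' i j w) = Finset.univ.map (Fin.castAddEmb j) := by
  ext m
  induction m using Fin.addCases with
  | left a => simpa using castAdd_mem_lefts_slice f f' i j w a
  | right b =>
    simp only [natAdd_notMem_lefts_slice f f' i j w b, false_iff, Finset.mem_map, Finset.mem_univ, true_and,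
      not_exists]
    intro a e
    exact absurd (congrArg Fin.val e) (by simp; omega)

/-- The open of points of shape `(left^i, right^j)`. -/
def shape : (SymProd.fibPow (coprod.desc f f') (i + j)).Opens :=
  ⟨lefts f f' (i + j) ⁻¹' {Finset.univ.map (Fin.castAddEmb j)}, (isLocallyConstant_lefts f f' (i + j)).isOpen_fiber _⟩

theorem mem_shape {z : ↥(SymProd.fibPow (coprod.desc f f') (i + j))} :
    z ∈ shape f f' i j ↔ lefts f f' (i + j) z = Finset.univ.map (Fin.castAddEmb j) := Iff.rfl

theorem left_range_subset (a : Fin i) :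
    Set.range ((shape f f' i j).ι ≫ WidePullback.π (fun _ : Fin (i + j) => coprod.desc f f') (Fin.castAdd j a)) ⊆
      Set.range (coprod.inl : X ⟶ X ⨿ X') := by
  rintro _ ⟨z, rfl⟩
  rw [Scheme.Hom.comp_apply, ← mem_lefts,
    show lefts f f' (i + j) ((shape f f' i j).ι z) = _ from (mem_shape f f' i j).1 z.2]
  simp

theorem right_range_subset (b : Fin j) :
    Set.range ((shape f f' i j).ι ≫ WidePullback.π (fun _ : Fin (i + j) => coprod.desc f f') (Fin.natAdd i b)) ⊆
      Set.range (coprod.inr : X' ⟶ X ⨿ X') := by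
  rintro _ ⟨z, rfl⟩
  have h : Fin.natAdd i b ∉ lefts f f' (i + j) ((shape f f' i j).ι z) := by
    rw [show lefts f f' (i + j) ((shape f f' i j).ι z) = _ from (mem_shape f f' i j).1 z.2]
    simp only [Finset.mem_map, Finset.mem_univ, true_and, not_exists]
    intro a e
    exact absurd (congrArg Fin.val e) (by simp; omega)
  rw [mem_lefts, ← Set.mem_compl_iff, (isCompl_range_inl_inr X X').compl_eq] at h
  exact h

/-- The slice is an open immersion. -/
theorem isOpenImmersion_slice : IsOpenImmersion (slice f f' i j) ∧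
    Set.range (slice f f' i j) = (shape f f' i j : Set ↥(SymProd.fibPow (coprod.desc f f') (i + j))) := by
  let W := shape f f' i j
  have hm : Set.range (slice f f' i j) ⊆ Set.range W.ι := by
    rw [Scheme.Opens.range_ι]
    rintro _ ⟨w, rfl⟩
    exact lefts_slice f f' i j w
  let a := IsOpenImmersion.lift W.ι (slice f f' i j) hm
  let bl : (W : Scheme.{u}) ⟶ SymProd.fibPow f i := WidePullback.lift (W.ι ≫ WidePullback.base _)
    (fun x => IsOpenImmersion.lift coprod.inl _ (left_range_subset f f' i j x)) (fun x => by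
      refine (congrArg (_ ≫ ·) (coprod.inl_desc f f').symm).trans ?_
      rw [IsOpenImmersion.lift_fac_assoc, Category.assoc, WidePullback.π_arrow])
  let br : (W : Scheme.{u}) ⟶ SymProd.fibPow f' j := WidePullback.lift (W.ι ≫ WidePullback.base _)
    (fun x => IsOpenImmersion.lift coprod.inr _ (right_range_subset f f' i j x)) (fun x => by
      refine (congrArg (_ ≫ ·) (coprod.inr_desc f f').symm).trans ?_
      rw [IsOpenImmersion.lift_fac_assoc, Category.assoc, WidePullback.π_arrow])
  let b : (W : Scheme.{u}) ⟶ pullback (WidePullback.base fun _ : Fin i => f) (WidePullback.base fun _ : Fin j => f') :=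
    pullback.lift bl br ((WidePullback.lift_base _ _ _ _).trans (WidePullback.lift_base _ _ _ _).symm)
  have hbm : b ≫ slice f f' i j = W.ι := by
    apply WidePullback.hom_ext
    · intro m
      induction m using Fin.addCases with
      | left x =>
        rw [Category.assoc, slice_π_left, pullback.lift_fst_assoc, WidePullback.lift_π_assoc,
          IsOpenImmersion.lift_fac]
      | right x =>
        rw [Category.assoc, slice_π_right, pullback.lift_snd_assoc, WidePullback.lift_π_assoc,
          IsOpenImmersion.lift_fac]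
    · rw [Category.assoc, slice_base, pullback.lift_fst_assoc, WidePullback.lift_base]
  have hab : a ≫ b = 𝟙 _ := by
    apply pullback.hom_ext
    · apply WidePullback.hom_ext
      · intro x
        rw [Category.id_comp, Category.assoc, Category.assoc, pullback.lift_fst_assoc, WidePullback.lift_π,
          ← cancel_mono (coprod.inl : X ⟶ X ⨿ X'), Category.assoc, IsOpenImmersion.lift_fac,
          IsOpenImmersion.lift_fac_assoc, slice_π_left, Category.assoc]
      · rw [Category.id_comp, Category.assoc, Category.assoc, pullback.lift_fst_assoc, WidePullback.lift_base,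
          IsOpenImmersion.lift_fac_assoc, slice_base]
    · apply WidePullback.hom_ext
      · intro x
        rw [Category.id_comp, Category.assoc, Category.assoc, pullback.lift_snd_assoc, WidePullback.lift_π,
          ← cancel_mono (coprod.inr : X' ⟶ X ⨿ X'), Category.assoc, IsOpenImmersion.lift_fac,
          IsOpenImmersion.lift_fac_assoc, slice_π_right, Category.assoc]
      · rw [Category.id_comp, Category.assoc, Category.assoc, pullback.lift_snd_assoc, WidePullback.lift_base,
          IsOpenImmersion.lift_fac_assoc, slice_base, pullback.condition]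
  have hba : b ≫ a = 𝟙 _ := by
    rw [← cancel_mono W.ι, Category.assoc, IsOpenImmersion.lift_fac, hbm, Category.id_comp]
  haveI : IsIso a := ⟨b, hab, hba⟩
  have hfac : a ≫ W.ι = slice f f' i j := IsOpenImmersion.lift_fac _ _ _
  constructor
  · rw [← hfac]; infer_instance
  · refine Set.Subset.antisymm (hm.trans (Scheme.Opens.range_ι W).le) fun z hz => ⟨b ⟨z, hz⟩, ?_⟩
    rw [← Scheme.Hom.comp_apply, hbm]
    rfl

theorem blockAct_slice (a : ULift.{u} (Equiv.Perm (Fin i)) × ULift.{u} (Equiv.Perm (Fin j)))
    (h₁ : ∀ g, (SymProd.permActU f i g).hom ≫ WidePullback.base _ = WidePullback.base _)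
    (h₂ : ∀ g, (SymProd.permActU f' j g).hom ≫ WidePullback.base _ = WidePullback.base _) :
    (prodAct _ _ (SymProd.permActU f i) (SymProd.permActU f' j) h₁ h₂ a).hom ≫ slice f f' i j =
      slice f f' i j ≫ (SymProd.permActU (coprod.desc f f') (i + j) (blockHom i j a)).hom := by
  rw [SymProd.permActU_hom]
  apply WidePullback.hom_ext
  · intro m
    induction m using Fin.addCases with
    | left x =>
      rw [Category.assoc, Category.assoc, slice_π_left, SymProd.permHom_π, blockHom_symm_castAdd, slice_π_left,
        reassoc_of% (prodAct_fst _ _ _ _ h₁ h₂ a), SymProd.permActU_hom, SymProd.permHom_π_assoc]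
    | right x =>
      rw [Category.assoc, Category.assoc, slice_π_right, SymProd.permHom_π, blockHom_symm_natAdd, slice_π_right,
        reassoc_of% (prodAct_snd _ _ _ _ h₁ h₂ a), SymProd.permActU_hom, SymProd.permHom_π_assoc]
  · rw [Category.assoc, Category.assoc, slice_base, SymProd.permHom_base, slice_base,
      reassoc_of% (prodAct_fst _ _ _ _ h₁ h₂ a), h₁]

variable {i j}

theorem exists_perm_slice (z : ↥(SymProd.fibPow (coprod.desc f f') (i + j)))
    (hz : (lefts f f' (i + j) z).card = i) :
    ∃ (g : Equiv.Perm (Fin (i + j))) (w : ↥(pullback (WidePullback.base fun _ : Fin i => f) (WidePullback.base fun _ : Fin j => f'))),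
      SymProd.permHom (coprod.desc f f') (i + j) g (slice f f' i j w) = z := by
  classical
  let M : Finset (Fin (i + j)) := Finset.univ.map (Fin.castAddEmb j)
  have hM : M.card = i := by simp [M]
  let e : {m // m ∈ M} ≃ {m // m ∈ lefts f f' (i + j) z} := Finset.equivOfCardEq (hM.trans hz.symm)
  let g := e.extendSubtype
  have hmem : SymProd.permHom (coprod.desc f f') (i + j) g.symm z ∈ shape f f' i j := by
    rw [mem_shape]
    ext m
    rw [mem_lefts_perm, Equiv.symm_symm]
    refine ⟨fun h => ?_, fun h => e.extendSubtype_mem m h⟩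
    by_contra hm
    exact e.extendSubtype_not_mem m hm h
  have hr := (isOpenImmersion_slice f f' i j).2
  obtain ⟨w, hw⟩ : SymProd.permHom (coprod.desc f f') (i + j) g.symm z ∈ Set.range (slice f f' i j) :=
    hr ▸ hmem
  refine ⟨g, w, ?_⟩
  rw [hw, ← Scheme.Hom.comp_apply, ← SymProd.permHom_mul, ← Equiv.Perm.inv_def, mul_inv_cancel,
    SymProd.permHom_one]
  rfl

theorem mem_range_of_perm_slice (g : ULift.{u} (Equiv.Perm (Fin (i + j))))
    (w w' : ↥(pullback (WidePullback.base fun _ : Fin i => f) (WidePullback.base fun _ : Fin j => f')))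
    (h : SymProd.permHom (coprod.desc f f') (i + j) g.down (slice f f' i j w) = slice f f' i j w') :
    g ∈ (blockHom i j).range := by
  refine mem_range_blockHom i j g fun x => ?_
  have h1 : g.down (Fin.castAdd j x) ∈ lefts f f' (i + j) (slice f f' i j w') := by
    rw [← h, mem_lefts_perm, Equiv.symm_apply_apply]
    exact castAdd_mem_lefts_slice f f' i j w x
  rw [lefts_slice, Finset.mem_map] at h1
  obtain ⟨x', -, hx'⟩ := h1
  exact ⟨x', hx'.symm⟩

end Slice

section Pieces

variable {T : Scheme.{u}} {n : ℕ} {Q : SymProd.fibPow (coprod.desc f f') n ⟶ T}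
  (hQ : SGA1.IsQuot (SymProd.permActU (coprod.desc f f') n) Q)

/-- The piece of the symmetric product with `i` points in the first summand. -/
def piece (i : ℕ) : T.Opens :=
  ⟨Q '' {z | (lefts f f' n z).card = i},
    IsQuot25.isOpenMap hQ _ (((isLocallyConstant_lefts f f' n).comp Finset.card).isOpen_fiber i)⟩

theorem isClosed_piece (i : ℕ) : IsClosed (piece f f' hQ i : Set T) :=
  IsQuot25.isClosedMap hQ _ (((isLocallyConstant_lefts f f' n).comp Finset.card).isClosed_fiber i)

theorem mem_preimage_piece (i : ℕ) (z : ↥(SymProd.fibPow (coprod.desc f f') n)) :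
    Q z ∈ piece f f' hQ i ↔ (lefts f f' n z).card = i := by
  refine ⟨fun ⟨z', hz', e⟩ => ?_, fun h => ⟨z, h, rfl⟩⟩
  obtain ⟨g, rfl⟩ := IsQuot25.orbit hQ z' z e
  rw [SymProd.permActU_hom, card_lefts_perm]
  exact hz'

theorem pieces_disjoint (a b : ℕ) (hab : a ≠ b) : Disjoint (piece f f' hQ a : Set T) (piece f f' hQ b) := by
  refine Set.disjoint_left.2 fun t ha hb => hab ?_
  obtain ⟨z, rfl⟩ := IsQuot25.surjective hQ t
  rw [← (mem_preimage_piece f f' hQ a z).1 ha, (mem_preimage_piece f f' hQ b z).1 hb]

theorem pieces_cover (t : T) : ∃ i ∈ Finset.range (n + 1), t ∈ piece f f' hQ i := by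
  obtain ⟨z, rfl⟩ := IsQuot25.surjective hQ t
  refine ⟨(lefts f f' n z).card, Finset.mem_range.2 ?_, (mem_preimage_piece f f' hQ _ z).2 rfl⟩
  have := (lefts f f' n z).card_le_univ
  rw [Fintype.card_fin] at this
  omega

end Pieces

end Decomp

end Groth.Agent.SymZeta13
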